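import Cfsg.Agent.H58.SFour
import Cfsg.Agent.Thompson.PieceRatio
import Cfsg.Agent.Suzuki.Lie

/-!
# Sections `S₃` and `S₄`

`S₃` is involved iff an element inverts an element of order three; `S₄` is not involved if the Sylow
2-subgroups are abelian or TI.
-/

set_option autoImplicit false
set_option linter.style.haveILetI false

namespace Cfsg.Agent.H88.Gold

open Subgroup
open Cfsg.Agent.Thompson.Par (Inv3)

variable {G H : Type*} [Group G] [Group H]

theorem involves_three_iff [Finite G] :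
    Cfsg.Involves (Equiv.Perm (Fin 3)) G ↔ Inv3 G := by
  refine ⟨fun h => ?_, fun h => Thompson.Pc.involves_of_inv3 h⟩
  obtain ⟨e⟩ := H47.FF.nonempty_dihedral_perm
  obtain ⟨K, f, hf⟩ := H58.Inv.exists_hom_of_involves h
  have hd : Cfsg.Involves (DihedralGroup 3) G :=
    H58.Inv.involves_of_hom (e.symm.toMonoidHom.comp f) (e.symm.surjective.comp hf)
  have : Fact (Nat.Prime 3) := ⟨Nat.prime_three⟩
  obtain ⟨x, y, -, ⟨k, hk⟩, hy1, hxy⟩ := (S2758.result (by decide : (3 : ℕ) ≠ 2)).2.1 hd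
  obtain _ | k := k
  · exact absurd (orderOf_eq_one_iff.1 (by rw [hk, pow_zero])) hy1
  refine ⟨y ^ 3 ^ k, x, ?_, by rw [← conj_pow, hxy, inv_pow]⟩
  rw [orderOf_pow_of_dvd (by positivity) (hk ▸ pow_dvd_pow 3 (Nat.le_succ k)), hk,
    Nat.pow_div (Nat.le_succ k) (by norm_num), show k + 1 - k = 1 by omega, pow_one]

theorem inv3_of_equiv (e : G ≃* H) (h : Inv3 G) : Inv3 H := by
  obtain ⟨b, t, hb, ht⟩ := h
  exact ⟨e b, e t, by rw [MulEquiv.orderOf_eq, hb], by rw [← map_inv, ← map_mul, ← map_mul, ht, map_inv]⟩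

theorem inv3_iff_of_equiv (e : G ≃* H) : Inv3 G ↔ Inv3 H :=
  ⟨inv3_of_equiv e, inv3_of_equiv e.symm⟩

/-- An element inverting an element of order three has a 2-part doing the same. -/
theorem Inv3.two_part [Finite G] (h : Inv3 G) :
    ∃ b x : G, orderOf b = 3 ∧ (∃ k : ℕ, orderOf x = 2 ^ k) ∧ x * b * x⁻¹ = b⁻¹ := by
  obtain ⟨b, t, hb, ht⟩ := h
  obtain ⟨k, m, hm, he⟩ := Nat.exists_eq_pow_mul_and_not_dvd (orderOf_pos t).ne' 2 (by norm_num)
  have hm0 : m ≠ 0 := fun h => hm (h ▸ dvd_zero _)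
  refine ⟨b, t ^ m, hb, ⟨k, ?_⟩, ?_⟩
  · rw [orderOf_pow' _ hm0, he, Nat.gcd_eq_right (dvd_mul_left m _),
      Nat.mul_div_cancel _ (by omega)]
  · obtain ⟨j, rfl⟩ : ∃ j, m = 2 * j + 1 := ⟨m / 2, by omega⟩
    have h3 : Commute (t * t) b := mul_inv_eq_iff_eq_mul.1 (by
      rw [show t * t * b * (t * t)⁻¹ = t * (t * b * t⁻¹) * t⁻¹ by group, ht,
        show t * b⁻¹ * t⁻¹ = (t * b * t⁻¹)⁻¹ by group, ht, inv_inv])
    rw [pow_succ, pow_mul, sq, show (t * t) ^ j * t * b * ((t * t) ^ j * t)⁻¹ =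
      (t * t) ^ j * (t * b * t⁻¹) * ((t * t) ^ j)⁻¹ by group, ht,
      ((h3.pow_left j).inv_right).eq, mul_inv_cancel_right]

theorem not_inv3_of_odd [Finite G] (h : Odd (Nat.card G)) : ¬ Inv3 G := fun h3 => by
  obtain ⟨b, x, hb, ⟨k, hk⟩, hxb⟩ := Inv3.two_part h3
  obtain rfl : x = 1 := orderOf_eq_one_iff.1 (Nat.eq_one_of_dvd_coprimes
    (Nat.Coprime.pow_left k (Nat.coprime_two_left.2 h)) (hk ▸ dvd_rfl) (orderOf_dvd_natCard x))
  rw [one_mul, inv_one, mul_one, eq_inv_iff_mul_eq_one, ← pow_two] at hxb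
  have := Nat.le_of_dvd two_pos (orderOf_dvd_of_pow_eq_one hxb)
  omega

theorem not_inv3_of_three [Finite G] (h : ¬ 3 ∣ Nat.card G) : ¬ Inv3 G := fun ⟨b, _, hb, _⟩ =>
  h (hb ▸ orderOf_dvd_natCard b)

theorem inv3_of_subgroup_normalizer {S : Subgroup G} (hS : IsPGroup 2 S)
    (hN : ∀ x ∈ normalizer (S : Set G), (∃ k : ℕ, orderOf x = 2 ^ k) → x ∈ S) [Finite G] :
    ¬ Inv3 (normalizer (S : Set G)) := fun h => by
  obtain ⟨b, x, hb, ⟨k, hk⟩, hxb⟩ := Inv3.two_part h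
  have hxS : (x : G) ∈ S := hN x x.2 ⟨k, by rw [Subgroup.orderOf_coe, hk]⟩
  have hb2 : ((b : G) * x⁻¹ * (b : G)⁻¹) ∈ S := (mem_normalizer_iff.1 b.2 _).1 (S.inv_mem hxS)
  have hxb' : (x : G) * b * (x : G)⁻¹ = (b : G)⁻¹ := congrArg Subtype.val hxb
  have hmem := S.mul_mem hxS hb2
  simp only [Subgroup.coe_inv] at hmem
  rw [show (x : G) * (b * (x : G)⁻¹ * (b : G)⁻¹) = x * b * (x : G)⁻¹ * (b : G)⁻¹ by group, hxb'] at hmem
  have h3 : (b : G) ^ 3 = 1 := by
    rw [← Subgroup.coe_pow, ← hb, pow_orderOf_eq_one, Subgroup.coe_one]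
  have hbS : (b : G) ∈ S := by
    have e : (b : G) = (b : G)⁻¹ * (b : G)⁻¹ := by
      rw [← mul_inv_rev, eq_inv_iff_mul_eq_one]
      simpa [pow_succ, mul_assoc] using h3
    rwa [← e] at hmem
  obtain ⟨j, hj⟩ := hS ⟨b, hbS⟩
  have := orderOf_dvd_of_pow_eq_one hj
  rw [Subgroup.orderOf_mk, Subgroup.orderOf_coe, hb] at this
  exact absurd (Nat.prime_three.dvd_of_dvd_pow this) (by norm_num)

theorem not_involves_four [Finite G]
    (h : ∀ T : Subgroup G, IsPGroup 2 T → T ≠ ⊥ → ¬ Inv3 (↥(normalizer (T : Set G)) ⧸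
      (centralizer (T : Set G)).subgroupOf (normalizer (T : Set G)))) :
    ¬ Cfsg.Involves (Equiv.Perm (Fin 4)) G := fun h4 => by
  obtain ⟨T, hT, h3⟩ := H58.SFour.forward h4
  rw [involves_three_iff] at h3
  by_cases hbot : T = ⊥
  · refine not_inv3_of_odd ?_ h3
    suffices hC : (centralizer (T : Set G)).subgroupOf (normalizer (T : Set G)) = ⊤ by
      rw [← Subgroup.index_eq_card, hC, Subgroup.index_top]; exact odd_one
    rw [subgroupOf_eq_top]
    intro x _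
    rw [hbot, mem_centralizer_iff]
    intro y hy
    rw [SetLike.mem_coe, mem_bot] at hy
    rw [hy, one_mul, mul_one]
  · exact h T hT hbot h3

theorem not_involves_four_of_abelian [Finite G] (P : Sylow 2 G)
    (hP : IsMulCommutative (P : Subgroup G)) : ¬ Cfsg.Involves (Equiv.Perm (Fin 4)) G := by
  haveI : Fact (Nat.Prime 2) := ⟨Nat.prime_two⟩
  refine not_involves_four fun T hT _ => not_inv3_of_odd ?_
  set N := normalizer (T : Set G)
  set C := (centralizer (T : Set G)).subgroupOf N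
  obtain ⟨Q⟩ : Nonempty (Sylow 2 N) := inferInstance
  have hQC : (Q : Subgroup N) ≤ C := by
    intro x hx
    have hsup : IsPGroup 2 (T ⊔ (Q : Subgroup N).map N.subtype : Subgroup G) :=
      IsPGroup.to_sup_of_normal_left' hT (Q.isPGroup'.map _) (map_subtype_le _)
    obtain ⟨R, hR⟩ := hsup.exists_le_sylow
    obtain ⟨g, rfl⟩ := MulAction.exists_smul_eq G P R
    rw [mem_subgroupOf, mem_centralizer_iff]
    intro y hy
    obtain ⟨y', hy', ey⟩ := hR (mem_sup_left hy)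
    obtain ⟨x', hx', ex⟩ := hR (mem_sup_right ⟨x, hx, rfl⟩)
    have e := congrArg Subtype.val (hP.is_comm.comm (⟨y', hy'⟩ : (P : Subgroup G)) ⟨x', hx'⟩)
    simp only [Subgroup.coe_mul] at e
    change g * y' * g⁻¹ = y at ey
    change g * x' * g⁻¹ = (x : G) at ex
    rw [← ey, ← ex, show g * y' * g⁻¹ * (g * x' * g⁻¹) = g * (y' * x') * g⁻¹ by group, e]
    group
  rw [← Subgroup.index_eq_card, Nat.odd_iff, ← Nat.not_even_iff, even_iff_two_dvd]
  exact fun h2 => Q.not_dvd_index (h2.trans (Subgroup.index_dvd_of_le hQC))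

theorem not_involves_four_of_ti [Finite G]
    (hti : ∀ S T : Sylow 2 G, S ≠ T → (S : Subgroup G) ⊓ (T : Subgroup G) = ⊥) :
    ¬ Cfsg.Involves (Equiv.Perm (Fin 4)) G := by
  haveI : Fact (Nat.Prime 2) := ⟨Nat.prime_two⟩
  refine not_involves_four fun T hT hbot h => ?_
  obtain ⟨S, hS⟩ := hT.exists_le_sylow
  have hle : normalizer (T : Set G) ≤ normalizer ((S : Subgroup G) : Set G) := by
    intro g hg
    refine Sylow.smul_eq_iff_mem_normalizer.1 ?_
    by_contra hne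
    refine hbot (eq_bot_iff.2 ((le_inf ?_ hS).trans (hti _ S hne).le))
    intro x hx
    refine ⟨g⁻¹ * x * g, hS ((mem_normalizer_iff''.1 hg x).1 hx), ?_⟩
    show g * (g⁻¹ * x * g) * g⁻¹ = x
    group
  refine inv3_of_subgroup_normalizer S.isPGroup' (fun x hx hk => ?_) ?_
  · obtain ⟨k, hk⟩ := hk
    have hp : IsPGroup 2 (zpowers x) := IsPGroup.of_card (n := k) (by rw [Nat.card_zpowers, hk])
    have := IsPGroup.to_sup_of_normal_left' (H := (S : Subgroup G)) S.isPGroup' hp (zpowers_le.2 hx)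
    exact (S.3 this le_sup_left).le (mem_sup_right (mem_zpowers x))
  · obtain ⟨b, t, hb, ht⟩ := Thompson.Par.Inv3.of_quotient _ h
    refine ⟨inclusion hle b, inclusion hle t, ?_, ?_⟩
    · rw [← hb]; exact orderOf_injective _ (inclusion_injective hle) b
    · rw [← map_inv, ← map_mul, ← map_mul, ht, map_inv]

theorem not_inv3_suzuki (h : Cfsg.Lie.IsoSuzuki G) : ¬ Inv3 G := by
  obtain ⟨F, _, _, m, hm, hF, ⟨e⟩⟩ := h
  haveI : Finite G := Finite.of_equiv _ e.symm.toEquiv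
  refine not_inv3_of_three ?_
  rw [Nat.card_congr e.toEquiv]
  haveI : Suzuki.SzField F m := ⟨hF, hm⟩
  rw [← Nat.card_congr (Suzuki.lieEquiv m).toEquiv]
  exact Suzuki.three_not_dvd_card m

end Cfsg.Agent.H88.Gold
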