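import Cfsg.Agent.H88.Gold.PSL
import Cfsg.Agent.Compute.J1.Centralizer
import Cfsg.Agent.Compute.J1.Basic

/-!
# Abelian Sylow 2-subgroups from an involution centralizer; the group `J₁`
-/

set_option autoImplicit false
set_option linter.style.haveILetI false

namespace Cfsg.Agent.H88.Gold

open Subgroup
open Cfsg.Agent.Thompson.Par (Inv3)

theorem exists_comm_sylow_of_prod {G A B : Type*} [Group G] [Finite G] [Group A] [Group B]
    [IsMulCommutative A] [Finite B] {H : Subgroup G} (hH : Odd H.index) (e : H ≃* A × B)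
    (hB : ¬ 8 ∣ Nat.card B) :
    ∃ P : Sylow 2 G, IsMulCommutative (P : Subgroup G) := by
  haveI : Fact (Nat.Prime 2) := ⟨Nat.prime_two⟩
  obtain ⟨Q⟩ : Nonempty (Sylow 2 H) := inferInstance
  have hidx : ¬ 2 ∣ ((Q : Subgroup H).map H.subtype).index := by
    rw [index_map_subtype]
    intro h
    rcases Nat.prime_two.dvd_mul.1 h with h | h
    · exact Q.not_dvd_index h
    · exact Nat.not_even_iff_odd.2 hH (even_iff_two_dvd.2 h)
  refine ⟨(Q.isPGroup'.map H.subtype).toSylow hidx, ?_⟩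
  set f : H →* B := (MonoidHom.snd A B).comp e.toMonoidHom
  obtain ⟨R, hR⟩ := (Q.isPGroup'.map f).exists_le_sylow
  have hRc := comm_sylow_of_eight hB R
  refine ⟨⟨?_⟩⟩
  rintro ⟨_, x, hx, rfl⟩ ⟨_, y, hy, rfl⟩
  refine Subtype.ext ?_
  show (x : G) * y = y * x
  refine congrArg Subtype.val (e.injective (Prod.ext ?_ ?_) : x * y = y * x)
  · rw [map_mul, map_mul, Prod.fst_mul, Prod.fst_mul]
    exact mul_comm' _ _
  · rw [map_mul, map_mul, Prod.snd_mul, Prod.snd_mul]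
    exact congrArg Subtype.val
      (hRc.is_comm.comm ⟨f x, hR ⟨x, hx, rfl⟩⟩ ⟨f y, hR ⟨y, hy, rfl⟩⟩)

theorem inv3_alt_five : Inv3 (alternatingGroup (Fin 5)) := by
  haveI : Fact (Nat.Prime 3) := ⟨Nat.prime_three⟩
  refine ⟨⟨Equiv.swap 0 1 * Equiv.swap 1 2, ?_⟩, ⟨Equiv.swap 0 1 * Equiv.swap 3 4, ?_⟩,
    orderOf_eq_prime ?_ ?_, ?_⟩
  all_goals first | decide +kernel | (rw [Equiv.Perm.mem_alternatingGroup]; decide +kernel)

theorem comm_J1 {G : Type*} [Group G] [Finite G] (h : Cfsg.Spor.IsoJ1 G) :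
    (∃ P : Sylow 2 G, IsMulCommutative (P : Subgroup G)) ∧ Inv3 G := by
  obtain ⟨ι⟩ := h
  haveI : Finite ↥Cfsg.Spor.J1 := Finite.of_equiv G ι.toEquiv
  obtain ⟨t, -, ⟨c⟩⟩ := Compute.J1.centralizer_J1
  set C := centralizer ({t} : Set ↥Cfsg.Spor.J1)
  set H : Subgroup G := C.map ι.symm.toMonoidHom
  have e : H ≃* Multiplicative (ZMod 2) × ↥(alternatingGroup (Fin 5)) :=
    (equivMapOfInjective C ι.symm.toMonoidHom ι.symm.injective).symm.trans c
  have hA : Nat.card ↥(alternatingGroup (Fin 5)) = 60 := by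
    rw [nat_card_alternatingGroup, Nat.card_fin]; rfl
  refine ⟨exists_comm_sylow_of_prod ?_ e (by rw [hA]; norm_num), ?_⟩
  · have h := H.card_mul_index
    rw [Nat.card_congr e.toEquiv, Nat.card_prod, hA, Nat.card_congr Multiplicative.toAdd,
      Nat.card_zmod, Nat.card_congr ι.toEquiv, Compute.J1.card_J1] at h
    rw [show H.index = 1463 by omega]
    decide
  · obtain ⟨b, s, hb, hs⟩ := inv3_alt_five
    refine Thompson.Par.Inv3.of_subgroup (Y := H) ⟨e.symm (1, b), e.symm (1, s), ?_, ?_⟩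
    · rw [MulEquiv.orderOf_eq, Prod.orderOf, orderOf_one, hb]; rfl
    · rw [← map_inv, ← map_mul, ← map_mul, ← map_inv, Prod.inv_mk, Prod.mk_mul_mk,
        Prod.mk_mul_mk, Prod.inv_mk, hs]
      simp

end Cfsg.Agent.H88.Gold
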