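import Cfsg.Agent.H88.Gold.Basic
import Cfsg.Agent.H99.RankOne.UnitaryModel

/-!
# The sections of `PSU₃(2ⁿ)`

The Sylow 2-subgroups are TI and `S₃` is involved.
-/

set_option autoImplicit false
set_option linter.unusedSectionVars false
set_option linter.style.haveILetI false

namespace Cfsg.Agent.H88.Gold

open MulAction Subgroup
open scoped Pointwise
open Cfsg Cfsg.Agent.Unitary Cfsg.Agent.H52.SUThree Cfsg.Agent.H72.PSUThree
open Cfsg.Agent.Thompson.Par (Inv3)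

theorem ti_of_action {G Ω : Type*} [Group G] [MulAction G Ω] {a : Ω} (P : Sylow 2 G) [Finite G]
    (hstab : ∀ g : G, g • a = a → g ∈ normalizer ((P : Subgroup G) : Set G))
    (hfix : ∀ x ∈ (P : Subgroup G), x • a = a)
    (hfree : ∀ x ∈ (P : Subgroup G), ∀ c : Ω, c ≠ a → x • c = c → x = 1) :
    ∀ S T : Sylow 2 G, S ≠ T → (S : Subgroup G) ⊓ (T : Subgroup G) = ⊥ := by
  haveI : Fact (Nat.Prime 2) := ⟨Nat.prime_two⟩
  intro S T hne
  obtain ⟨g, rfl⟩ := exists_smul_eq G P S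
  obtain ⟨h, rfl⟩ := exists_smul_eq G P T
  rw [eq_bot_iff]
  rintro x ⟨⟨x1, hx1, rfl⟩, ⟨x2, hx2, e⟩⟩
  change h * x2 * h⁻¹ = g * x1 * g⁻¹ at e
  show g * x1 * g⁻¹ ∈ (⊥ : Subgroup G)
  have hc : g⁻¹ • (h • a) ≠ a := by
    intro hga
    refine hne ?_
    rw [← mul_smul] at hga
    have := Sylow.smul_eq_iff_mem_normalizer.2 (hstab _ hga)
    rwa [mul_smul, inv_smul_eq_iff, eq_comm] at this
  have hx : x1 • (g⁻¹ • (h • a)) = g⁻¹ • (h • a) := by
    rw [show x1 = g⁻¹ * (h * x2 * h⁻¹) * g by rw [e]; group]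
    simp only [mul_smul, smul_inv_smul, inv_smul_smul, hfix x2 hx2]
  rw [mem_bot, hfree x1 hx1 _ hc hx]
  group

variable {F : Type} [Field F] [Fintype F] {n : ℕ}

theorem ti_su (hn : 1 ≤ n) (hF : Fintype.card F = (2 ^ n) ^ 2) :
    ∀ S T : Sylow 2 ↥(Cfsg.SU 3 F (2 ^ n)), S ≠ T →
      (S : Subgroup ↥(Cfsg.SU 3 F (2 ^ n))) ⊓ (T : Subgroup ↥(Cfsg.SU 3 F (2 ^ n))) = ⊥ := by
  obtain ⟨u, w, f, hfr⟩ := exists_frame (q := 2 ^ n) hF
  have hnorm : ∀ g ∈ st hfr, ∀ x ∈ uni u, g * x * g⁻¹ ∈ uni u := by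
    intro g hg x hx
    have hx' : x ∈ st hfr := uni_le_st hfr hx
    have hgx : g * x * g⁻¹ ∈ st hfr := mul_mem (mul_mem hg hx') (inv_mem hg)
    refine (lamHom_eq_one_iff hF hfr (g := ⟨_, hgx⟩)).1 ?_
    rw [show (⟨g * x * g⁻¹, hgx⟩ : st hfr) = ⟨g, hg⟩ * ⟨x, hx'⟩ * ⟨g, hg⟩⁻¹ from rfl, map_mul,
      map_mul, map_inv, (lamHom_eq_one_iff hF hfr (g := ⟨x, hx'⟩)).2 hx, mul_one, mul_inv_cancel]
  have horb : MulAction.orbit ↥(Cfsg.SU 3 F (2 ^ n)) (pu hfr) = Set.univ := by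
    refine Set.eq_univ_of_forall fun x => ?_
    by_cases hx : x = pu hfr
    · exact hx ▸ MulAction.mem_orbit_self _
    · obtain ⟨b, β, h, rfl⟩ := exists_E_pf hF hfr hx
      exact ⟨eSU hF (h.spec hfr) * H99.RankOne.flip hF hfr, by
        show (eSU hF (h.spec hfr) * H99.RankOne.flip hF hfr) • pu hfr = _
        rw [mul_smul, H99.RankOne.flip_pu]⟩
  have hcard : Nat.card ↥(uni u : Subgroup ↥(Cfsg.SU 3 F (2 ^ n))) = 2 ^ (3 * n) := by
    have h1 := card_ok (F := F) (q := 2 ^ n) hF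
    rw [mul_comm, pow_mul, ← h1]
    refine (Nat.card_congr (Equiv.ofBijective
      (fun p : {p : F × F // Ok (2 ^ n) p.1 p.2} =>
        (⟨eSU hF (p.2.spec hfr), E_mem_uni hF hfr p.2⟩ : uni u)) ⟨?_, ?_⟩)).symm
    · intro p p' e
      obtain ⟨e1, e2⟩ := E_inj hF hfr p.2 p'.2 (congrArg Subtype.val e)
      exact Subtype.ext (Prod.ext e1 e2)
    · rintro ⟨g, hg⟩
      obtain ⟨b, β, hok, rfl⟩ := (mem_uni_iff hF hfr).1 hg
      exact ⟨⟨(b, β), hok⟩, rfl⟩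
  have hidx : ¬ 2 ∣ (uni u : Subgroup ↥(Cfsg.SU 3 F (2 ^ n))).index := by
    have hsi : (st hfr).index = (2 ^ n) ^ 3 + 1 := by
      rw [← card_pts hF hfr, st, MulAction.index_stabilizer, horb, Set.ncard_univ]
    have hu := (st hfr).card_mul_index
    rw [card_st hF hfr, hsi, ← (uni u : Subgroup ↥(Cfsg.SU 3 F (2 ^ n))).card_mul_index, hcard,
      ← pow_mul, mul_comm n 3, mul_assoc] at hu
    rw [← Nat.eq_of_mul_eq_mul_left (by positivity) hu]
    have e1 : (2 ^ n) ^ 2 % 2 = 0 := by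
      rw [← pow_mul, Nat.pow_mod]; simp [(show n * 2 ≠ 0 by omega)]
    have e2 : 2 ^ (3 * n) % 2 = 0 := by
      rw [Nat.pow_mod]; simp [(show 3 * n ≠ 0 by omega)]
    have e3 : 1 ≤ (2 ^ n) ^ 2 := Nat.one_le_pow _ _ (by positivity)
    haveI : Fact (Nat.Prime 2) := ⟨Nat.prime_two⟩
    intro hd
    rcases Nat.prime_two.dvd_mul.1 hd with hd | hd <;> omega
  haveI : Fact (Nat.Prime 2) := ⟨Nat.prime_two⟩
  set P := (IsPGroup.of_card (n := 3 * n) hcard).toSylow hidx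
  have hP := H99.RankOne.isPointed_SU hF hfr
  refine ti_of_action (a := pu hfr) P (fun g hg => ?_) (fun x hx => hP.fix x hx) ?_
  · show g ∈ normalizer ((uni u : Subgroup ↥(Cfsg.SU 3 F (2 ^ n))) : Set ↥(Cfsg.SU 3 F (2 ^ n)))
    refine mem_normalizer_iff.2 fun x => ⟨hnorm g hg x, fun hx => ?_⟩
    have := hnorm g⁻¹ (inv_mem (show g ∈ st hfr from hg)) _ hx
    simpa [mul_assoc] using this
  · intro x hx c hc hxc
    obtain ⟨y, hy, huniq⟩ := hP.regular c hc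
    have h1 := huniq (⟨x, hx⟩ * y) (by
      show (x * (y : ↥(Cfsg.SU 3 F (2 ^ n)))) • _ = c
      rw [mul_smul, hy, hxc])
    exact congrArg Subtype.val (mul_eq_right.1 h1)

theorem ti_psu (hn : 1 ≤ n) (hF : Fintype.card F = (2 ^ n) ^ 2) :
    ∀ S T : Sylow 2 (Cfsg.PSU 3 F (2 ^ n)), S ≠ T →
      (S : Subgroup (Cfsg.PSU 3 F (2 ^ n))) ⊓ (T : Subgroup (Cfsg.PSU 3 F (2 ^ n))) = ⊥ := by
  haveI : Fact (Nat.Prime 2) := ⟨Nat.prime_two⟩
  have hZ : Odd (Nat.card (center ↥(Cfsg.SU 3 F (2 ^ n)))) := by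
    rw [card_center_SU hF (by norm_num)]
    exact Odd.of_dvd_nat (by decide : Odd 3) (Nat.gcd_dvd_left _ _)
  intro S T hne
  obtain ⟨S', rfl⟩ := Sylow.mapSurjective_surjective (QuotientGroup.mk'_surjective _) 2 S
  obtain ⟨T', rfl⟩ := Sylow.mapSurjective_surjective (QuotientGroup.mk'_surjective _) 2 T
  rw [eq_bot_iff]
  rintro x ⟨⟨x1, hx1, rfl⟩, ⟨x2, hx2, e⟩⟩
  have hz : x1⁻¹ * x2 ∈ center ↥(Cfsg.SU 3 F (2 ^ n)) := QuotientGroup.eq.1 e.symm
  have hc : Commute x1 x2 := by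
    have h := (mem_center_iff.1 hz x1)
    exact mul_left_cancel (a := x1⁻¹) (by
      calc x1⁻¹ * (x1 * x2) = x1 * (x1⁻¹ * x2) := by group
        _ = x1⁻¹ * x2 * x1 := h
        _ = x1⁻¹ * (x2 * x1) := by group)
  obtain ⟨i, hi⟩ := S'.isPGroup' ⟨x1, hx1⟩
  obtain ⟨j, hj⟩ := T'.isPGroup' ⟨x2, hx2⟩
  have hi' : x1 ^ 2 ^ i = 1 := congrArg Subtype.val hi
  have hj' : x2 ^ 2 ^ j = 1 := congrArg Subtype.val hj
  have hpow : (x1⁻¹ * x2) ^ 2 ^ (i + j) = 1 := by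
    rw [hc.inv_left.mul_pow, inv_pow, pow_add, pow_mul, hi', one_pow, inv_one, one_mul,
      mul_comm, pow_mul, hj', one_pow]
  have hone : x1⁻¹ * x2 = 1 := orderOf_eq_one_iff.1 (Nat.eq_one_of_dvd_coprimes
    (Nat.Coprime.pow_left _ (Nat.coprime_two_left.2 hZ)) (orderOf_dvd_of_pow_eq_one hpow)
    (Subgroup.orderOf_dvd_natCard _ hz))
  obtain rfl : x1 = x2 := inv_mul_eq_one.1 hone
  have : x1 ∈ (⊥ : Subgroup ↥(Cfsg.SU 3 F (2 ^ n))) :=
    (ti_su hn hF S' T' fun h => hne (by rw [h])).le ⟨hx1, hx2⟩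
  rw [mem_bot] at this
  rw [this, map_one]
  exact one_mem _

theorem inv3_psu (hn : 1 ≤ n) (hF : Fintype.card F = (2 ^ n) ^ 2) :
    Inv3 (Cfsg.PSU 3 F (2 ^ n)) := by
  obtain ⟨u, w, f, hfr⟩ := exists_frame (q := 2 ^ n) hF
  have h2 : (2 : F) = 0 := by
    have h : ((Fintype.card F : ℕ) : F) = 0 := Nat.cast_card_eq_zero F
    rw [hF, Nat.cast_pow, Nat.cast_pow] at h
    exact_mod_cast eq_zero_of_pow_eq_zero (eq_zero_of_pow_eq_zero h)
  haveI : CharP F 2 := CharTwo.of_one_ne_zero_of_two_eq_zero one_ne_zero h2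
  have hneg : ∀ x : F, -x = x := fun x => CharTwo.neg_eq x
  have hD : (!![0, 0, 1; 0, 1, 0; 1, 0, 1] : Matrix (Fin 3) (Fin 3) F).det = 1 := by
    simp [Matrix.det_fin_three, hneg]
  obtain ⟨g, hg⟩ := exists_map hF hfr _ hD (by
    intro x y
    simp [Matrix.mulVec, dotProduct, Fin.sum_univ_three, add_pow_char_pow]
    linear_combination (x 2 * y 2 ^ 2 ^ n) * h2)
  have hg' : ∀ p r s, ap g (vec u w f p r s) = vec u w f s r (p + s) := by
    intro p r s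
    rw [hg]
    simp [Matrix.mulVec, dotProduct, Fin.sum_univ_three]
  set t := H99.RankOne.flip hF hfr
  have ht : ∀ p r s, ap t (vec u w f p r s) = vec u w f s r p := fun p r s => by
    rw [H99.RankOne.ap_flip, hneg]
  have hss : ∀ p s : F, s + (p + s) = p := fun p s => by linear_combination s * h2
  have hg3 : g * (g * g) = 1 := eq_of_ap hfr fun p r s => by
    rw [ap_mul, ap_mul, hg', hg', hg', ap_one, hss, add_comm (p + s) p, ← add_assoc,
      CharTwo.add_self_eq_zero, zero_add]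
  have hgtg : g * (t * g) = t := eq_of_ap hfr fun p r s => by
    rw [ap_mul, ap_mul, hg', ht, hg', ht, add_comm (p + s) s, hss]
  set π := QuotientGroup.mk' (center ↥(Cfsg.SU 3 F (2 ^ n)))
  have hne : π g ≠ 1 := fun h => by
    obtain ⟨l, hl⟩ := eq_smul_of_mem_center hF (by norm_num) ((QuotientGroup.eq_one_iff g).1 h)
    have h' := (hg' 1 0 0).symm.trans (hl _)
    rw [vec_smul] at h'
    exact one_ne_zero (show (1 : F) = 0 by simpa using (vec_inj hfr h').2.2)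
  haveI : Fact (Nat.Prime 3) := ⟨Nat.prime_three⟩
  refine ⟨π g, π t, orderOf_eq_prime ?_ hne, ?_⟩
  · rw [← map_pow, pow_succ, pow_two, mul_assoc, hg3, map_one]
  · rw [← map_inv, ← map_inv, ← map_mul, ← map_mul]
    refine congrArg π (eq_inv_of_mul_eq_one_right ?_)
    calc g * (t * g * t⁻¹) = g * (t * g) * t⁻¹ := by group
      _ = 1 := by rw [hgtg, mul_inv_cancel]

end Cfsg.Agent.H88.Gold
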