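import Cfsg.Agent.H88.Gold.Ree
import Cfsg.Agent.H88.Gold.UThree
import Cfsg.Agent.H91.CI.Bender
import Cfsg.Agent.Thompson.PieceSuzuki

/-!
# `S₃` and `S₄` in the groups of Goldschmidt
-/

set_option autoImplicit false
set_option linter.style.haveILetI false
set_option linter.unusedSectionVars false

namespace Cfsg.Agent.H88.Gold

open Subgroup
open Cfsg.Agent.Thompson.Par (Inv3)

universe u

variable {G : Type u} [Group G] [Finite G]

theorem not_inv3_member (h : Cfsg.IsSuzukiOrPSL2OddPowerThree G) : ¬ Inv3 G := by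
  rcases h with h | ⟨F, _, _, n, hF, ⟨e⟩⟩
  · exact not_inv3_suzuki h
  · exact fun h3 => not_inv3_psl_three hF (inv3_of_equiv e h3)

theorem suzuki_four_free (h : Cfsg.Lie.IsoSuzuki G) :
    ¬ Cfsg.Involves (Equiv.Perm (Fin 4)) G := by
  refine not_involves_four fun T _ _ h3 => not_inv3_suzuki h ?_
  exact Thompson.Par.Inv3.of_subgroup (Thompson.Par.Inv3.of_quotient _ h3)

theorem exists_comm_sylow_of_equiv {H : Type*} [Group H] [Finite H] (e : G ≃* H) (P : Sylow 2 H)
    (hP : IsMulCommutative (P : Subgroup H)) :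
    ∃ Q : Sylow 2 G, IsMulCommutative (Q : Subgroup G) := by
  haveI : Fact (Nat.Prime 2) := ⟨Nat.prime_two⟩
  refine ⟨P.mapSurjective (f := e.symm.toMonoidHom) e.symm.surjective, ⟨⟨?_⟩⟩⟩
  rintro ⟨_, a, ha, rfl⟩ ⟨_, b, hb, rfl⟩
  refine Subtype.ext ?_
  show e.symm a * e.symm b = e.symm b * e.symm a
  rw [← map_mul, ← map_mul]
  exact congrArg (fun c : (P : Subgroup H) => e.symm c) (hP.is_comm.comm ⟨a, ha⟩ ⟨b, hb⟩)

/-- In each case `G` is `S₄`-free, and it is in the exceptional list or `S₃` is involved. -/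
theorem goldschmidt_cases (hW : WardHyp.{u}) (hG : Cfsg.IsGoldschmidtGroup G) :
    ¬ Cfsg.Involves (Equiv.Perm (Fin 4)) G ∧
      (Cfsg.IsSuzukiOrPSL2OddPowerThree G ∨ Inv3 G) := by
  rcases hG with h | ⟨F, _, _, n, hn, hF, ⟨e⟩⟩ | h | ⟨F, _, _, n, hn, hF, ⟨e⟩⟩ |
    ⟨F, _, _, q, hF, h5, h8, ⟨e⟩⟩ | h
  · obtain ⟨P, hP⟩ := comm_sylow_ree h
    exact ⟨not_involves_four_of_abelian P hP, Or.inr (inv3_ree hW h)⟩
  · haveI := H58.CI.charP_two_of_pow hF
    obtain ⟨P, hP⟩ := exists_comm_sylow_even (F := F)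
    obtain ⟨Q, hQ⟩ := exists_comm_sylow_of_equiv e P hP
    refine ⟨not_involves_four_of_abelian Q hQ, Or.inr (inv3_of_equiv e.symm (inv3_psl ?_))⟩
    intro h3
    exact one_ne_zero (show (1 : F) = 0 by linear_combination h3 - CharTwo.two_eq_zero (R := F))
  · exact ⟨suzuki_four_free h, Or.inl (Or.inl h)⟩
  · have hF' : Fintype.card F = (2 ^ n) ^ 2 := by
      rw [hF, ← pow_mul, mul_comm, pow_mul]
      norm_num
    refine ⟨fun h4 => not_involves_four_of_ti (ti_psu (by omega) hF') ?_,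
      Or.inr (inv3_of_equiv e.symm (inv3_psu (by omega) hF'))⟩
    obtain ⟨K, f, hf⟩ := H58.Inv.exists_hom_of_involves h4
    exact H58.Inv.involves_of_hom (f.comp (K.equivMapOfInjective e.toMonoidHom e.injective).symm.toMonoidHom)
      (hf.comp (K.equivMapOfInjective e.toMonoidHom e.injective).symm.surjective)
  · subst hF
    have hL : H10.Walter.IsOddPSL G := ⟨F, _, _, h5, h8, ⟨e⟩⟩
    obtain ⟨P⟩ : Nonempty (Sylow 2 G) := inferInstance
    refine ⟨not_involves_four_of_abelian P (comm_sylow_of_eight ?_ P), ?_⟩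
    · have := H29.Walter.card_mod_eight hL
      omega
    by_cases h3 : (3 : F) = 0
    · left
      right
      obtain ⟨p, hp⟩ := CharP.exists F
      have hp3 := (CharP.cast_eq_zero_iff F p 3).1 (by exact_mod_cast h3)
      rcases (Nat.dvd_prime Nat.prime_three).1 hp3 with rfl | rfl
      · exact absurd (show (1 : F) = 0 from Nat.cast_one (R := F) ▸ CharP.cast_eq_zero F 1) one_ne_zero
      obtain ⟨m, -, hm⟩ := FiniteField.card F 3
      obtain ⟨k, hk | hk⟩ := Nat.even_or_odd' (m : ℕ)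
      · exfalso
        rw [hm, hk, pow_mul] at h8
        norm_num [Nat.pow_mod] at h8
      · exact ⟨F, _, _, k, by rw [hm, hk], ⟨e⟩⟩
    · exact Or.inr (inv3_of_equiv e.symm (inv3_psl h3))
  · obtain ⟨⟨P, hP⟩, h3⟩ := comm_J1 h
    exact ⟨not_involves_four_of_abelian P hP, Or.inr h3⟩

/-- The statement about Goldschmidt groups, given the order of the groups of Ree type. -/
theorem goldschmidt_of_ward (hW : WardHyp.{u}) (hG : Cfsg.IsGoldschmidtGroup G) :
    ¬ Cfsg.Involves (Equiv.Perm (Fin 4)) G ∧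
      (¬ Cfsg.Involves (Equiv.Perm (Fin 3)) G ↔ Cfsg.IsSuzukiOrPSL2OddPowerThree G) := by
  obtain ⟨h4, h⟩ := goldschmidt_cases hW hG
  refine ⟨h4, ?_⟩
  rw [involves_three_iff]
  exact ⟨fun hn => h.resolve_right hn, not_inv3_member⟩

end Cfsg.Agent.H88.Gold
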