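import Cfsg.Agent.H88.Gold.Basic
import Cfsg.Agent.Thompson.PiecePSL
import Cfsg.Agent.H21.Walter.ShapeEven
import Cfsg.Agent.H29.Walter.PslFacts

/-!
# The sections of `PSL₂`

`S₃` is involved in `PSL₂` away from characteristic three and is not involved in `PSL₂(3^(2n+1))`.
-/

set_option autoImplicit false
set_option linter.style.haveILetI false

namespace Cfsg.Agent.H88.Gold

open Subgroup Matrix
open Cfsg.Agent.Thompson.Par (Inv3)
open Cfsg.Agent.H56 (toP toP_surjective)

variable {F : Type} [Field F] [Fintype F]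

local notation "M2" => Matrix (Fin 2) (Fin 2) F
local notation "S2" => Matrix.SpecialLinearGroup (Fin 2) F
local notation "P2" => H56.PSLn 2 F

theorem exists_norm_neg_one (h3 : (3 : F) ≠ 0) : ∃ a b : F, -(a * a) - b * (b - a) = 1 := by
  by_cases h2 : (2 : F) = 0
  · exact ⟨1, 1, by linear_combination -h2⟩
  · have hchar : ringChar F ≠ 2 := fun h => h2 (by
      haveI : CharP F 2 := h ▸ ringChar.charP F
      exact CharTwo.two_eq_zero)
    have hf : (Polynomial.X ^ 2 : Polynomial F).degree = 2 := Polynomial.degree_X_pow 2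
    have hg : (Polynomial.C (3 : F) * Polynomial.X ^ 2 + Polynomial.C 4).degree = 2 := by
      rw [Polynomial.degree_add_C (by rw [Polynomial.degree_C_mul_X_pow 2 h3]; norm_num),
        Polynomial.degree_C_mul_X_pow 2 h3]
      rfl
    obtain ⟨x, b, hxb⟩ := FiniteField.exists_root_sum_quadratic hf hg
      (FiniteField.odd_card_of_char_ne_two hchar)
    simp only [Polynomial.eval_pow, Polynomial.eval_X, Polynomial.eval_add, Polynomial.eval_mul,
      Polynomial.eval_C] at hxb
    refine ⟨(x + b) / 2, b, ?_⟩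
    field_simp
    linear_combination -hxb

/-- `S₃` is involved in `PSL₂` in characteristic not three. -/
theorem inv3_psl (h3 : (3 : F) ≠ 0) : Inv3 P2 := by
  obtain ⟨a, b, hab⟩ := exists_norm_neg_one h3
  set Y : S2 := Thompson.Pc.sl 0 1 (-1) (-1) (by ring) with hY
  set X : S2 := Thompson.Pc.sl a b (b - a) (-a) (by linear_combination hab) with hX
  have hY3 : Y * (Y * Y) = 1 := by
    refine Linear.SL_ext_two ?_ ?_ ?_ ?_ <;> simp only [Linear.SL_mul_entries, hY] <;> simp
  have hYXY : Y * (X * Y) = X := by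
    refine Linear.SL_ext_two ?_ ?_ ?_ ?_ <;> simp only [Linear.SL_mul_entries, hY, hX] <;> simp <;> ring
  have hne : (toP Y : P2) ≠ 1 := by
    rw [← map_one (toP (F := F) (n := 2)), Ne, Thompson.Pc.toP_eq_cases]
    rintro (h | h) <;>
    · have h1 := congrArg (fun z : S2 => (z : M2) 0 1) h
      simp [hY] at h1
  haveI : Fact (Nat.Prime 3) := ⟨Nat.prime_three⟩
  refine ⟨toP Y, toP X, orderOf_eq_prime ?_ hne, ?_⟩
  · rw [← map_pow, pow_succ, pow_two, mul_assoc, hY3, map_one]
  · rw [← map_inv, ← map_inv, ← map_mul, ← map_mul]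
    refine congrArg toP (eq_inv_of_mul_eq_one_right ?_)
    calc Y * (X * Y * X⁻¹) = Y * (X * Y) * X⁻¹ := by group
      _ = 1 := by rw [hYXY, mul_inv_cancel]

variable {n : ℕ}

theorem matrix_impossible (hns : ¬ IsSquare (-1 : F)) (h2 : (2 : F) ≠ 0)
    {a b c p r s : F} (hU : a * a + b * c = -1) (hN : p * p + r * s = 0)
    (hne : p ≠ 0 ∨ r ≠ 0 ∨ s ≠ 0)
    (h : (b * s = r * c ∧ a * r = b * p ∧ c * p = a * s) ∨ 2 * (a * p) + b * s + c * r = 0) :
    False := by
  by_cases hr : r = 0
  · subst hr
    obtain rfl : p = 0 := mul_self_eq_zero.1 (by simpa using hN)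
    have hs : s ≠ 0 := by simpa using hne
    rcases h with ⟨h1, -, h3⟩ | h
    · obtain rfl : b = 0 := by simpa [hs] using h1
      obtain rfl : a = 0 := by simpa [hs] using h3
      simp at hU
    · obtain rfl : b = 0 := by simpa [hs] using h
      exact hns ⟨a, by linear_combination -hU⟩
  · rcases h with ⟨h1, h2', -⟩ | h
    · have : r * r = 0 := by
        linear_combination (r * r) * hU - (a * r + b * p) * h2' + b * r * h1 - b * b * hN
      exact hr (mul_self_eq_zero.1 this)
    · refine hns ⟨(a * r - b * p) / r, ?_⟩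
      field_simp
      linear_combination -(r * r) * hU + (b * r) * h - (b * b) * hN

theorem no_involution_normalizes (hF : Fintype.card F = 3 ^ (2 * n + 1)) {u y : P2} (hu1 : u ≠ 1)
    (hu : u * u = 1) (hy : y ^ 3 = 1) (hy1 : y ≠ 1) (h : u * y * u⁻¹ = y ∨ u * y * u⁻¹ = y⁻¹) :
    False := by
  have h3 := Thompson.Pc.three_eq_zero hF
  have h2 := Thompson.Pc.two_ne_zero' hF
  obtain ⟨U, rfl⟩ := toP_surjective u
  obtain ⟨B₀, hB₀⟩ := toP_surjective y
  obtain ⟨B, rfl, hB3⟩ : ∃ B : S2, toP B = y ∧ B ^ 3 = 1 := by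
    have e : toP (1 : S2) = toP (B₀ ^ 3) := by rw [map_pow, hB₀, hy, map_one]
    rcases Thompson.Pc.toP_eq_cases.1 e with e | e
    · exact ⟨B₀, hB₀, e⟩
    · refine ⟨-B₀, ?_, by rw [Odd.neg_pow (by decide), e, neg_neg]⟩
      rw [← hB₀, Thompson.Pc.toP_eq_cases]
      exact Or.inr (neg_neg _).symm
  set a := (U : M2) 0 0
  set b := (U : M2) 0 1
  set c := (U : M2) 1 0
  set d := (U : M2) 1 1
  -- the square of `U`
  have hU : d = -a ∧ a * a + b * c = -1 := by
    rw [← map_mul, ← map_one (toP (F := F) (n := 2)), Thompson.Pc.toP_eq_cases] at hu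
    rw [← map_one (toP (F := F) (n := 2)), Ne, Thompson.Pc.toP_eq_cases] at hu1
    have hdet := Linear.SL_det_two U
    have hu' : U * U = 1 ∨ U * U = -1 := by
      rcases hu with e | e
      · exact Or.inl e.symm
      · exact Or.inr (by rw [e, neg_neg])
    rcases hu' with e | e
    · exfalso
      apply hu1
      have e00 := congrArg (fun z : S2 => (z : M2) 0 0) e
      have e01 := congrArg (fun z : S2 => (z : M2) 0 1) e
      have e10 := congrArg (fun z : S2 => (z : M2) 1 0) e
      simp [Linear.SL_mul_entries] at e00 e01 e10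
      have hb : b = 0 := by
        rcases eq_or_ne (a + d) 0 with h0 | h0
        · exfalso
          have : (2 : F) = 0 := by linear_combination -e00 - hdet + a * h0
          exact h2 this
        · exact (mul_eq_zero.1 (show (a + d) * b = 0 by linear_combination e01)).resolve_left h0
      have hc : c = 0 := by
        rcases eq_or_ne (a + d) 0 with h0 | h0
        · exfalso
          exact h2 (by linear_combination -e00 - hdet + a * h0)
        · exact (mul_eq_zero.1 (show (a + d) * c = 0 by linear_combination e10)).resolve_left h0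
      have hda : d = a := by linear_combination a * hdet - d * e00 + (a + d) * c * hb
      rcases mul_self_eq_one_iff.1 (show a * a = 1 by linear_combination e00 - c * hb) with ha | ha
      · exact Or.inl (Linear.SL_ext_two (by simpa using ha.symm) (by simpa using hb.symm)
          (by simpa using hc.symm) (by simpa using (hda.trans ha).symm))
      · exact Or.inr (Linear.SL_ext_two (by simp [a, ha])
          (by simpa using hb) (by simpa using hc)
          (by simp; exact (neg_eq_iff_eq_neg.2 (hda.trans ha)).symm))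
    · have e00 := congrArg (fun z : S2 => (z : M2) 0 0) e
      have e11 := congrArg (fun z : S2 => (z : M2) 1 1) e
      simp [Linear.SL_mul_entries] at e00 e11
      have hs : (a + d) * (a + d) = 0 := by linear_combination e00 + e11 + 2 * hdet
      have hd : d = -a := by linear_combination mul_self_eq_zero.1 hs
      exact ⟨hd, by linear_combination e00⟩
  obtain ⟨hd, hU⟩ := hU
  -- `B` is unipotent
  have htr : (B : M2) 0 0 + (B : M2) 1 1 = 2 := by
    have hnil : ((B : M2) - 1) ^ 3 = 0 := by
      have e : (B : M2) ^ 3 = 1 := by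
        rw [← Matrix.SpecialLinearGroup.coe_pow, hB3, Matrix.SpecialLinearGroup.coe_one]
      calc ((B : M2) - 1) ^ 3 = (B : M2) ^ 3 - 1 - (3 : F) • ((B : M2) * B - B) := by
            simp only [pow_succ, pow_zero, one_mul, sub_mul, mul_sub, mul_one, smul_sub]
            module
        _ = 0 := by rw [e, h3]; simp
    have hdet : ((B : M2) - 1).det = 0 := by
      have := congrArg Matrix.det hnil
      rw [Matrix.det_pow, Matrix.det_zero] at this
      exact eq_zero_of_pow_eq_zero this
    have hB := Linear.SL_det_two B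
    rw [Matrix.det_fin_two] at hdet
    simp at hdet
    linear_combination -hdet + hB
  set p := (B : M2) 0 0 - 1 with hp
  set r := (B : M2) 0 1 with hr
  set s := (B : M2) 1 0 with hs
  have h00 : (B : M2) 0 0 = 1 + p := by rw [hp]; ring
  have h11 : (B : M2) 1 1 = 1 - p := by linear_combination htr - h00
  have hN : p * p + r * s = 0 := by
    have hB := Linear.SL_det_two B
    rw [h00, h11] at hB
    linear_combination -hB
  have hne : p ≠ 0 ∨ r ≠ 0 ∨ s ≠ 0 := by
    by_contra hcon
    simp only [not_or, not_not] at hcon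
    obtain ⟨e1, e2, e3⟩ := hcon
    refine hy1 ?_
    rw [← map_one (toP (F := F) (n := 2))]
    refine congrArg toP (Linear.SL_ext_two ?_ ?_ ?_ ?_) <;> simp [h00, h11, e1, ← hr, ← hs, e2, e3]
  -- the sign is removed by the trace
  obtain ⟨C, hC, hCtr, hUB⟩ : ∃ C : S2, (C = B ∨ C = B⁻¹) ∧ (C : M2).trace = 2 ∧
      U * B = C * U := by
    obtain ⟨C, hC, hCe⟩ : ∃ C : S2, (C = B ∨ C = B⁻¹) ∧ toP C = toP (U * B * U⁻¹) := by
      rcases h with h | h
      · exact ⟨B, Or.inl rfl, by rw [map_mul, map_mul, map_inv, h]⟩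
      · exact ⟨B⁻¹, Or.inr rfl, by rw [map_mul, map_mul, map_inv, map_inv, h]⟩
    have hCtr : (C : M2).trace = 2 := by
      rw [Matrix.trace_fin_two]
      rcases hC with rfl | rfl
      · exact htr
      · rw [Matrix.SpecialLinearGroup.coe_inv, Matrix.adjugate_fin_two]
        simp
        linear_combination htr
    refine ⟨C, hC, hCtr, ?_⟩
    rcases Thompson.Pc.toP_eq_cases.1 hCe with e | e
    · rw [← e, inv_mul_cancel_right]
    · exfalso
      have e' : (U * B * U⁻¹ : S2).1.trace = -(2 : F) := by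
        rw [e, Matrix.SpecialLinearGroup.coe_neg, Matrix.trace_neg, hCtr]
      rw [Matrix.SpecialLinearGroup.coe_mul, Matrix.trace_mul_comm,
        ← Matrix.SpecialLinearGroup.coe_mul, inv_mul_cancel_left, Matrix.trace_fin_two, htr] at e'
      exact h2 (mul_self_eq_zero.1 (show (2 : F) * 2 = 0 by linear_combination e'))
  refine matrix_impossible (Thompson.Pc.not_square_neg_one hF) h2 hU hN hne ?_
  have e00 := congrArg (fun z : S2 => (z : M2) 0 0) hUB
  have e01 := congrArg (fun z : S2 => (z : M2) 0 1) hUB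
  have e10 := congrArg (fun z : S2 => (z : M2) 1 0) hUB
  simp only [Linear.SL_mul_entries] at e00 e01 e10
  rcases hC with rfl | rfl
  · left
    rw [h00, ← hs, ← hr] at e00
    rw [h00, h11, ← hr] at e01
    rw [h00, h11, ← hs] at e10
    refine ⟨?_, mul_left_cancel₀ h2 ?_, mul_left_cancel₀ h2 ?_⟩
    · linear_combination e00
    · linear_combination e01 + r * hd
    · linear_combination e10 - s * hd
  · right
    rw [Matrix.SpecialLinearGroup.coe_inv, Matrix.adjugate_fin_two] at e00
    simp [h00, h11, ← hr, ← hs] at e00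
    linear_combination e00

/-- `S₃` is not involved in `PSL₂(3^(2n+1))`. -/
theorem not_inv3_psl_three (hF : Fintype.card F = 3 ^ (2 * n + 1)) : ¬ Inv3 P2 := fun h => by
  obtain ⟨y, t, hy, ⟨k, hk⟩, hty⟩ := Inv3.two_part h
  have hy1 : y ≠ 1 := fun h => by rw [h, orderOf_one] at hy; norm_num at hy
  have hy3 : y ^ 3 = 1 := hy ▸ pow_orderOf_eq_one y
  obtain _ | k := k
  · rw [pow_zero, orderOf_eq_one_iff] at hk
    rw [hk, one_mul, inv_one, mul_one, eq_inv_iff_mul_eq_one, ← pow_two] at hty
    have := Nat.le_of_dvd two_pos (orderOf_dvd_of_pow_eq_one hty)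
    omega
  · have hu : orderOf (t ^ 2 ^ k) = 2 := by
      rw [orderOf_pow_of_dvd (by positivity) (hk ▸ pow_dvd_pow 2 (Nat.le_succ k)), hk,
        Nat.pow_div (Nat.le_succ k) two_pos, show k + 1 - k = 1 by omega, pow_one]
    refine no_involution_normalizes hF (u := t ^ 2 ^ k)
      (fun h => by rw [h, orderOf_one] at hu; norm_num at hu)
      (by rw [← pow_two]; exact orderOf_dvd_iff_pow_eq_one.1 hu.dvd) hy3 hy1 ?_
    obtain _ | j := k
    · exact Or.inr (by rw [pow_zero, pow_one]; exact hty)
    · refine Or.inl (mul_inv_eq_iff_eq_mul.2 ?_)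
      rw [pow_succ', pow_mul]
      refine (Commute.pow_left (mul_inv_eq_iff_eq_mul.1 ?_) _).eq
      rw [pow_two, show t * t * y * (t * t)⁻¹ = t * (t * y * t⁻¹) * t⁻¹ by group, hty,
        show t * y⁻¹ * t⁻¹ = (t * y * t⁻¹)⁻¹ by group, hty, inv_inv]

/-- A group of order not divisible by eight has abelian Sylow 2-subgroups. -/
theorem comm_sylow_of_eight {G : Type*} [Group G] [Finite G] (h : ¬ 8 ∣ Nat.card G)
    (P : Sylow 2 G) : IsMulCommutative (P : Subgroup G) := by
  haveI : Fact (Nat.Prime 2) := ⟨Nat.prime_two⟩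
  obtain ⟨k, hk⟩ := IsPGroup.iff_card.mp P.isPGroup'
  rcases (show k = 0 ∨ k = 1 ∨ k = 2 ∨ 3 ≤ k by omega) with rfl | rfl | rfl | h3
  · haveI := (Nat.card_eq_one_iff_unique.1 (hk.trans (pow_zero 2))).1
    exact ⟨⟨fun a b => Subsingleton.elim _ _⟩⟩
  · haveI := isCyclic_of_prime_card (hk.trans (pow_one 2))
    exact ⟨⟨fun a b => (IsCyclic.commGroup (α := (P : Subgroup G))).mul_comm a b⟩⟩
  · exact IsPGroup.isMulCommutative_of_card_eq_prime_sq hk
  · exact absurd ((show 8 = 2 ^ 3 by norm_num) ▸ (pow_dvd_pow 2 h3).trans (hk ▸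
      card_subgroup_dvd_card _)) h

/-- The Sylow 2-subgroups of `PSL₂` in characteristic two are abelian. -/
theorem exists_comm_sylow_even [CharP F 2] :
    ∃ P : Sylow 2 P2, IsMulCommutative (P : Subgroup P2) := by
  haveI : Fact (Nat.Prime 2) := ⟨Nat.prime_two⟩
  obtain ⟨R, hR⟩ := (Linear.Dickson.isPGroup_cen_stdUni (F := F) 2).exists_le_sylow
  refine ⟨R, ⟨⟨fun a b => Subtype.ext (Linear.Dickson.cen_comm Linear.Dickson.stdUni_ne_one ?_ ?_)⟩⟩⟩
  all_goals
    have hle : (R : Subgroup P2) ≤ Linear.Dickson.cen (Linear.Dickson.stdUni : P2) :=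
      (eq_of_le_of_card_ge hR (le_of_eq (by
        rw [(H21.Walter.exists_cyc_even R).1, Linear.Dickson.card_cen_stdUni]))).ge
  exacts [hle a.2, hle b.2]

end Cfsg.Agent.H88.Gold
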