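import Cfsg.Agent.H88.Gold.Local
import Cfsg.Agent.Coprime.Action

/-!
# Groups of Ree type

The Sylow 2-subgroups are abelian; by the order formula an element inverts an element of order
three.
-/

set_option autoImplicit false
set_option linter.style.haveILetI false
set_option linter.unusedSectionVars false

namespace Cfsg.Agent.H88.Gold

open Subgroup
open Cfsg.Agent.Thompson.Par (Inv3)

universe u

/-- The order of a simple group with abelian Sylow 2-subgroups and an involution centralizer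
`2 × PSL₂(q)`, as a hypothesis for the consumers. -/
def WardHyp : Prop :=
  ∀ (G : Type u) [Group G] [Finite G] [IsSimpleGroup G],
    (∀ P : Sylow 2 G, ∀ a b : P, a * b = b * a) →
    ∀ (F : Type) [Field F] [Fintype F], 3 ≤ Fintype.card F → ∀ t : G, orderOf t = 2 →
      Nonempty (centralizer ({t} : Set G) ≃*
        Multiplicative (ZMod 2) × Matrix.ProjectiveSpecialLinearGroup (Fin 2) F) →
      (∃ m : ℕ, 1 ≤ m ∧ Fintype.card F = 3 ^ (2 * m + 1) ∧
          Nat.card G = (3 ^ (2 * m + 1)) ^ 3 * ((3 ^ (2 * m + 1)) ^ 3 + 1) * (3 ^ (2 * m + 1) - 1)) ∨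
        ((Fintype.card F = 4 ∨ Fintype.card F = 5) ∧ Cfsg.IsJ1 G)

variable {G : Type u} [Group G] [Finite G]

theorem two_cases : ∀ a b : Multiplicative (ZMod 2), b ≠ 1 → a = 1 ∨ a = b := by decide

theorem exists_centralizer_equiv (h : Cfsg.IsReeType G) :
    IsSimpleGroup G ∧ ∃ (t : G) (n : ℕ) (F : Type) (_ : Field F) (_ : Fintype F), 1 ≤ n ∧
      Fintype.card F = 3 ^ (2 * n + 1) ∧ orderOf t = 2 ∧ Odd (centralizer ({t} : Set G)).index ∧
      ∃ ε : centralizer ({t} : Set G) ≃*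
          Multiplicative (ZMod 2) × Matrix.ProjectiveSpecialLinearGroup (Fin 2) F,
        (ε ⟨t, mem_centralizer_singleton_iff.2 rfl⟩).2 = 1 := by
  obtain ⟨hs, -, t, K, n, hn, ht, hidx, ⟨hT, hK, hcomm, hinf, hsup⟩, F, _, _, hF, ⟨e⟩⟩ := h
  refine ⟨hs, t, n, F, ‹Field F›, ‹Fintype F›, hn, hF, ht, hidx, ?_⟩
  let φ : zpowers t × K →* centralizer ({t} : Set G) :=
    MonoidHom.noncommCoprod (inclusion hT) (inclusion hK)
      fun a b => Subtype.ext (hcomm a a.2 b b.2)
  have hφ : ∀ p, (φ p : G) = (p.1 : G) * p.2 := fun p => rfl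
  have hinj : Function.Injective φ := by
    refine (injective_iff_map_eq_one _).2 ?_
    rintro ⟨a, b⟩ hab
    have h1 : (a : G) * b = 1 := congrArg Subtype.val hab
    have ha : (a : G) ∈ zpowers t ⊓ K :=
      ⟨a.2, by rw [eq_inv_of_mul_eq_one_left h1]; exact K.inv_mem b.2⟩
    rw [hinf, mem_bot] at ha
    refine Prod.ext (Subtype.ext ha) (Subtype.ext ?_)
    rwa [ha, one_mul] at h1
  have hsurj : Function.Surjective φ := by
    intro c
    have hle : (zpowers t ⊔ K : Subgroup G) ≤ (φ.range).map (centralizer ({t} : Set G)).subtype := by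
      refine sup_le (fun a ha => ?_) (fun b hb => ?_)
      · exact ⟨φ (⟨a, ha⟩, 1), ⟨_, rfl⟩, by simp [hφ]⟩
      · exact ⟨φ (1, ⟨b, hb⟩), ⟨_, rfl⟩, by simp [hφ]⟩
    obtain ⟨c', ⟨p, rfl⟩, hc⟩ := hle (hsup.ge c.2)
    exact ⟨p, Subtype.ext hc⟩
  let E := MulEquiv.ofBijective φ ⟨hinj, hsurj⟩
  let z : zpowers t ≃* Multiplicative (ZMod 2) := mulEquivOfCyclicCardEq (by
    rw [Nat.card_zpowers, ht, Nat.card_congr Multiplicative.toAdd, Nat.card_zmod])
  refine ⟨E.symm.trans (z.prodCongr e), ?_⟩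
  have : E.symm ⟨t, mem_centralizer_singleton_iff.2 rfl⟩ = (⟨t, mem_zpowers t⟩, 1) := by
    rw [MulEquiv.symm_apply_eq]
    refine Subtype.ext ?_
    show t = ((φ (⟨t, mem_zpowers t⟩, 1) : centralizer ({t} : Set G)) : G)
    rw [hφ]
    simp
  show ((z.prodCongr e) (E.symm _)).2 = 1
  rw [this]
  exact map_one e

theorem card_psl_mod {F : Type} [Field F] [Fintype F] {n : ℕ} (hn : 1 ≤ n)
    (hF : Fintype.card F = 3 ^ (2 * n + 1)) :
    ¬ 8 ∣ Nat.card (Matrix.ProjectiveSpecialLinearGroup (Fin 2) F) := by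
  have h8 := Thompson.Pc.card_mod_eight n
  have h5 : 5 ≤ Fintype.card F := by
    rw [hF]
    exact le_trans (by norm_num) (Nat.pow_le_pow_right (by norm_num) (show 3 ≤ 2 * n + 1 by omega))
  have := H29.Walter.card_mod_eight (L := Matrix.ProjectiveSpecialLinearGroup (Fin 2) F)
    ⟨F, _, _, h5, Or.inl (hF ▸ h8), ⟨MulEquiv.refl _⟩⟩
  omega

/-- The Sylow 2-subgroups are abelian. -/
theorem comm_sylow_ree (h : Cfsg.IsReeType G) :
    ∃ P : Sylow 2 G, IsMulCommutative (P : Subgroup G) := by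
  obtain ⟨-, t, n, F, _, _, hn, hF, -, hidx, ε, -⟩ := exists_centralizer_equiv h
  exact exists_comm_sylow_of_prod hidx ε (card_psl_mod hn hF)

theorem sylow_forall_comm {P : Sylow 2 G} (hP : IsMulCommutative (P : Subgroup G)) (R : Sylow 2 G)
    {a b : G} (ha : a ∈ (R : Subgroup G)) (hb : b ∈ (R : Subgroup G)) : a * b = b * a := by
  haveI : Fact (Nat.Prime 2) := ⟨Nat.prime_two⟩
  obtain ⟨g, rfl⟩ := MulAction.exists_smul_eq G P R
  obtain ⟨a', ha', rfl⟩ := ha
  obtain ⟨b', hb', rfl⟩ := hb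
  show g * a' * g⁻¹ * (g * b' * g⁻¹) = g * b' * g⁻¹ * (g * a' * g⁻¹)
  have e := congrArg Subtype.val (hP.is_comm.comm (⟨a', ha'⟩ : (P : Subgroup G)) ⟨b', hb'⟩)
  simp only [Subgroup.coe_mul] at e
  calc g * a' * g⁻¹ * (g * b' * g⁻¹) = g * (a' * b') * g⁻¹ := by group
    _ = g * (b' * a') * g⁻¹ := by rw [e]
    _ = _ := by group

/-- An element inverts an element of order three. -/
theorem inv3_ree (hW : WardHyp.{u}) (h : Cfsg.IsReeType G) : Inv3 G := by
  haveI : Fact (Nat.Prime 2) := ⟨Nat.prime_two⟩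
  haveI : Fact (Nat.Prime 3) := ⟨Nat.prime_three⟩
  obtain ⟨P, hP⟩ := comm_sylow_ree h
  obtain ⟨hs, t, n, F, _, _, hn, hF, ht, -, ε, hεt⟩ := exists_centralizer_equiv h
  haveI := hs
  set q := 3 ^ (2 * n + 1) with hq
  -- the order
  have hG : q ^ 3 ∣ Nat.card G := by
    rcases hW G (fun R a b => Subtype.ext (sylow_forall_comm hP R a.2 b.2)) F
      (hF ▸ (show 3 ≤ 3 ^ (2 * n + 1) from Nat.le_self_pow (by omega) 3)) t ht ⟨ε⟩ with
      ⟨m, -, hm, hcard⟩ | ⟨hm, -⟩
    · have hmn : 3 ^ (2 * m + 1) = q := hm.symm.trans hF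
      rw [hcard, hmn, mul_assoc]
      exact dvd_mul_right _ _
    · have h8 := Thompson.Pc.card_mod_eight n
      omega
  -- the order of the centralizer
  have hCcard : Nat.card (centralizer ({t} : Set G)) = q * (q ^ 2 - 1) := by
    have h' := H56.CTwoAb.card_psl_two_odd (F := F) (by
      have h8 := Thompson.Pc.card_mod_eight n; omega)
    rw [Nat.card_congr ε.toEquiv, Nat.card_prod, Nat.card_congr Multiplicative.toAdd, Nat.card_zmod,
      h', hF]
  have hC3 : ¬ 3 ^ (2 * n + 2) ∣ Nat.card (centralizer ({t} : Set G)) := by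
    rw [hCcard, pow_succ, ← hq]
    intro h3
    have h3' := (Nat.mul_dvd_mul_iff_left (by positivity : 0 < q)).1 h3
    have h9 : 3 ∣ q ^ 2 := dvd_pow (dvd_pow_self 3 (by omega)) (by norm_num)
    have h1 : 1 ≤ q ^ 2 := Nat.one_le_pow _ _ (by positivity)
    omega
  -- the unipotent subgroup
  haveI : CharP F 3 := by
    obtain ⟨p, hp⟩ := CharP.exists F
    have h3 := (CharP.cast_eq_zero_iff F p 3).1 (by exact_mod_cast Thompson.Pc.three_eq_zero hF)
    rcases (Nat.dvd_prime Nat.prime_three).1 h3 with rfl | rfl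
    · exact absurd (show (1 : F) = 0 from Nat.cast_one (R := F) ▸ CharP.cast_eq_zero F 1) one_ne_zero
    · exact hp
  set U₀ := Linear.Dickson.cen (Linear.Dickson.stdUni : Matrix.ProjectiveSpecialLinearGroup (Fin 2) F)
  let j : Matrix.ProjectiveSpecialLinearGroup (Fin 2) F →* G :=
    (centralizer ({t} : Set G)).subtype.comp (ε.symm.toMonoidHom.comp (MonoidHom.inr _ _))
  have hj : Function.Injective j :=
    (centralizer ({t} : Set G)).subtype_injective.comp (ε.symm.injective.comp fun a b e => congrArg Prod.snd e)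
  set U := U₀.map j with hU
  have hUcard : Nat.card U = q := by
    rw [hU, Subgroup.card_map_of_injective hj, Linear.Dickson.card_cen_stdUni, hF]
  have hUC : U ≤ (centralizer ({t} : Set G)) := by
    rintro _ ⟨x, -, rfl⟩
    exact (ε.symm (1, x)).2
  have hUcomm : ∀ a ∈ U, ∀ b ∈ U, a * b = b * a := by
    rintro _ ⟨a, ha, rfl⟩ _ ⟨b, hb, rfl⟩
    rw [← map_mul, ← map_mul, Linear.Dickson.cen_comm Linear.Dickson.stdUni_ne_one ha hb]
  set Cu := centralizer (U : Set G) with hCu
  have htCu : t ∈ Cu := mem_centralizer_iff.2 fun x hx =>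
    mem_centralizer_singleton_iff.1 (hUC hx)
  have hUCu : U ≤ Cu := fun a ha => mem_centralizer_iff.2 fun b hb => hUcomm b hb a ha
  obtain ⟨u, hu0, hu3⟩ : ∃ u ∈ U₀, orderOf u = 3 := by
    obtain ⟨u, hu⟩ := exists_prime_orderOf_dvd_card' (G := U₀) 3
      (by rw [Linear.Dickson.card_cen_stdUni, hF]; exact dvd_pow_self 3 (by omega))
    exact ⟨u, u.2, (Subgroup.orderOf_coe u).trans hu⟩
  -- the only involution of `C(U)` centralizing `t` is `t`
  have hkey : ∀ x : G, x ∈ Cu → ∀ hx : x ∈ (centralizer ({t} : Set G)), (∃ k : ℕ, orderOf x = 2 ^ k) → x ∈ zpowers t := by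
    rintro x hxu hx ⟨k, hk⟩
    set k₂ := (ε ⟨x, hx⟩).2 with hk₂
    have hcomm : k₂ * u = u * k₂ := by
      have e1 := mem_centralizer_iff.1 hxu (j u) ⟨u, hu0, rfl⟩
      have e2 : (ε.symm (1, u)) * ⟨x, hx⟩ = ⟨x, hx⟩ * ε.symm (1, u) := Subtype.ext e1
      have e3 := congrArg (fun c => (ε c).2) e2
      simp only [map_mul, ε.apply_symm_apply, Prod.snd_mul] at e3
      exact e3.symm
    have hk1 : k₂ = 1 := by
      by_contra hk1
      have hd : orderOf k₂ ∣ 2 ^ k := by
        refine orderOf_dvd_of_pow_eq_one ?_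
        have : (⟨x, hx⟩ : (centralizer ({t} : Set G))) ^ 2 ^ k = 1 := Subtype.ext (by
          rw [Subgroup.coe_pow, ← hk]; exact pow_orderOf_eq_one x)
        have := congrArg (fun c => (ε c).2) this
        simp only [map_pow, map_one, Prod.pow_snd, Prod.snd_one] at this
        exact this
      obtain ⟨i, -, hi⟩ := (Nat.dvd_prime_pow Nat.prime_two).1 hd
      obtain _ | i := i
      · exact hk1 (orderOf_eq_one_iff.1 (by rw [hi, pow_zero]))
      · have ho : orderOf (k₂ ^ 2 ^ i) = 2 := by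
          rw [orderOf_pow_of_dvd (by positivity) (hi ▸ pow_dvd_pow 2 (Nat.le_succ i)), hi,
            Nat.pow_div (Nat.le_succ i) two_pos, show i + 1 - i = 1 by omega, pow_one]
        exact no_involution_normalizes hF (u := k₂ ^ 2 ^ i) (y := u)
          (fun h => by rw [h, orderOf_one] at ho; norm_num at ho)
          (by rw [← pow_two]; exact orderOf_dvd_iff_pow_eq_one.1 ho.dvd)
          (orderOf_dvd_iff_pow_eq_one.1 hu3.dvd)
          (fun h => by rw [h, orderOf_one] at hu3; norm_num at hu3)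
          (Or.inl (mul_inv_eq_iff_eq_mul.2 ((Commute.pow_left hcomm _).eq)))
    obtain ⟨a₂, ha₂⟩ : ∃ a₂, a₂ = ε ⟨t, mem_centralizer_singleton_iff.2 rfl⟩ := ⟨_, rfl⟩
    have hat : a₂.1 ≠ 1 := fun h1 => by
      have : a₂ = 1 := Prod.ext h1 (by rw [ha₂]; exact hεt)
      rw [ha₂, MulEquiv.map_eq_one_iff] at this
      have : t = 1 := congrArg Subtype.val this
      rw [this, orderOf_one] at ht
      norm_num at ht
    rw [ha₂] at hat
    rcases two_cases (ε ⟨x, hx⟩).1 _ hat with e | e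
    · have : (⟨x, hx⟩ : (centralizer ({t} : Set G))) = 1 := ε.injective (by rw [map_one]; exact Prod.ext e hk1)
      rw [show x = 1 from congrArg Subtype.val this]
      exact one_mem _
    · have : (⟨x, hx⟩ : (centralizer ({t} : Set G))) = ⟨t, mem_centralizer_singleton_iff.2 rfl⟩ :=
        ε.injective (Prod.ext e (hk1.trans hεt.symm))
      rw [show x = t from congrArg Subtype.val this]
      exact mem_zpowers _
  -- the 2-part of `C(U)`
  have htp : IsPGroup 2 ((zpowers t).subgroupOf Cu) := by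
    refine IsPGroup.of_card (n := 1) ?_
    rw [Nat.card_congr (subgroupOfEquivOfLe (zpowers_le.2 htCu)).toEquiv, Nat.card_zpowers, ht,
      pow_one]
  obtain ⟨S, hS⟩ := htp.exists_le_sylow
  have hSle : (S : Subgroup Cu) ≤ (zpowers t).subgroupOf Cu := by
    intro x hx
    obtain ⟨R, hR⟩ := (S.isPGroup'.map Cu.subtype).exists_le_sylow
    rw [mem_subgroupOf]
    refine hkey x x.2 (mem_centralizer_singleton_iff.2
      (sylow_forall_comm hP R (hR ⟨x, hx, rfl⟩)
        (hR ⟨⟨t, htCu⟩, hS (mem_zpowers t), rfl⟩))) ?_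
    obtain ⟨k, hk⟩ := S.isPGroup' ⟨x, hx⟩
    have hk' : (x : G) ^ 2 ^ k = 1 := congrArg Subtype.val (congrArg Subtype.val hk)
    obtain ⟨i, -, hi⟩ := (Nat.dvd_prime_pow Nat.prime_two).1 (orderOf_dvd_of_pow_eq_one hk')
    exact ⟨i, hi⟩
  have hScard : Nat.card (S : Subgroup Cu) = 2 := by
    rw [le_antisymm hSle hS, Nat.card_congr (subgroupOfEquivOfLe (zpowers_le.2 htCu)).toEquiv,
      Nat.card_zpowers, ht]
  -- the 3-part of `N(U)` lies in `C(U)`
  set M := normalizer (U : Set G) with hM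
  have hCuM : Cu ≤ M := centralizer_le_normalizer _
  have h3M : 3 ^ (2 * n + 2) ∣ Nat.card M :=
    Sylow.prime_pow_dvd_card_normalizer ((pow_dvd_pow 3 (by omega : 2 * n + 2 ≤ (2 * n + 1) * 3)).trans
      ((pow_mul 3 (2 * n + 1) 3).symm ▸ hG)) hUcard
  have hfrat : ∀ m ∈ M, ∃ c ∈ Cu, c * m ∈ (centralizer ({t} : Set G)) := by
    intro m hm
    have hmt : m * t * m⁻¹ ∈ Cu := by
      refine mem_centralizer_iff.2 fun x hx => ?_
      have hx' : m⁻¹ * x * m ∈ U := (mem_normalizer_iff''.1 hm x).1 hx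
      have e := mem_centralizer_iff.1 htCu _ hx'
      calc x * (m * t * m⁻¹) = m * (m⁻¹ * x * m * t) * m⁻¹ := by group
        _ = m * (t * (m⁻¹ * x * m)) * m⁻¹ := by rw [e]
        _ = m * t * m⁻¹ * x := by group
    have hp : IsPGroup 2 ((zpowers (m * t * m⁻¹)).subgroupOf Cu) := by
      refine IsPGroup.of_card (n := 1) ?_
      rw [Nat.card_congr (subgroupOfEquivOfLe (zpowers_le.2 hmt)).toEquiv, Nat.card_zpowers,
        ← MulAut.conj_apply, MulEquiv.orderOf_eq, ht, pow_one]
    obtain ⟨S', hS'⟩ := hp.exists_le_sylow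
    obtain ⟨c, hc⟩ := MulAction.exists_smul_eq Cu S' S
    have hmem : c * ⟨m * t * m⁻¹, hmt⟩ * c⁻¹ ∈ (S : Subgroup Cu) := by
      rw [← hc]
      exact ⟨_, hS' (mem_zpowers _), rfl⟩
    have hmem' : (c : G) * (m * t * m⁻¹) * (c : G)⁻¹ ∈ zpowers t := hSle hmem
    refine ⟨c, c.2, mem_centralizer_singleton_iff.2 ?_⟩
    have hpow : ∀ y ∈ zpowers t, y = 1 ∨ y = t := by
      intro y hy
      obtain ⟨i, hi⟩ := hy
      change t ^ i = y at hi
      rw [← hi, ← zpow_mod_orderOf, ht]
      rcases Int.emod_two_eq_zero_or_one i with h | h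
      · exact Or.inl (by norm_num [h])
      · exact Or.inr (by norm_num [h])
    rcases hpow _ hmem' with e | e
    · rw [conj_eq_one_iff, conj_eq_one_iff] at e
      rw [e, orderOf_one] at ht
      norm_num at ht
    · calc (c : G) * m * t = (c : G) * (m * t * m⁻¹) * (c : G)⁻¹ * ((c : G) * m) := by group
        _ = t * ((c : G) * m) := by rw [e]
  have h3Cu : 3 ^ (2 * n + 2) ∣ Nat.card Cu := by
    haveI : (Cu.subgroupOf M).Normal := normal_subgroupOf_centralizer_normalizer _
    have hsup : ((centralizer ({t} : Set G)).subgroupOf M) ⊔ (Cu.subgroupOf M) = ⊤ := by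
      refine eq_top_iff.2 fun m _ => ?_
      obtain ⟨c, hc, hcm⟩ := hfrat m m.2
      have : m = (⟨c, hCuM hc⟩ : M)⁻¹ * ⟨c * m, M.mul_mem (hCuM hc) m.2⟩ := Subtype.ext (by simp)
      rw [this]
      exact mul_mem (mem_sup_right (inv_mem (mem_subgroupOf.2 hc))) (mem_sup_left (mem_subgroupOf.2 hcm))
    have h1 : (Cu.subgroupOf M).index = (Cu.subgroupOf M).relIndex ((centralizer ({t} : Set G)).subgroupOf M) := by
      rw [← relIndex_top_right, ← hsup, relIndex_sup_right]
    have h2 : (Cu.subgroupOf M).relIndex ((centralizer ({t} : Set G)).subgroupOf M) ∣ (U.subgroupOf M).relIndex ((centralizer ({t} : Set G)).subgroupOf M) :=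
      relIndex_dvd_of_le_left _ (comap_mono hUCu)
    have hUM : U ≤ M := le_normalizer
    have h3 : ¬ 3 ∣ (U.subgroupOf M).relIndex ((centralizer ({t} : Set G)).subgroupOf M) := by
      intro h3
      refine hC3 ?_
      have h4 := relIndex_mul_relIndex (⊥ : Subgroup M) (U.subgroupOf M)
        ((centralizer ({t} : Set G)).subgroupOf M) bot_le (comap_mono (f := M.subtype) hUC)
      rw [relIndex_bot_left, relIndex_bot_left,
        Nat.card_congr (subgroupOfEquivOfLe hUM).toEquiv, hUcard] at h4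
      have h5 : Nat.card ((centralizer ({t} : Set G)).subgroupOf M) ∣ Nat.card (centralizer ({t} : Set G)) := by
        rw [← Subgroup.card_map_of_injective M.subtype_injective (K := (centralizer ({t} : Set G)).subgroupOf M),
          subgroupOf_map_subtype]
        exact card_dvd_of_le inf_le_left
      refine Dvd.dvd.trans ?_ h5
      rw [← h4, pow_succ, ← hq]
      exact Nat.mul_dvd_mul_left _ h3
    have h6 : Nat.Coprime (3 ^ (2 * n + 2)) (Cu.subgroupOf M).index :=
      Nat.Coprime.pow_left _ ((Nat.prime_three.coprime_iff_not_dvd).2 fun h => h3 (h.trans (h1 ▸ h2)))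
    refine h6.dvd_of_dvd_mul_right ?_
    rw [← Nat.card_congr (subgroupOfEquivOfLe hCuM).toEquiv, Subgroup.card_mul_index]
    exact h3M
  -- the normal 2-complement
  have hScyc : IsCyclic (S : Subgroup Cu) := isCyclic_of_prime_card hScard
  have hmin : (Nat.card Cu).minFac = 2 :=
    (Nat.minFac_eq_two_iff _).2 (hScard ▸ card_subgroup_dvd_card _)
  have hcompl := IsCyclic.isComplement' hmin hScyc
  set O := (MonoidHom.transferSylow S (hScyc.normalizer_le_centralizer hmin)).ker with hO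
  have hOcard := hcompl.card_mul_card
  rw [hScard] at hOcard
  have hOodd : ¬ 2 ∣ Nat.card O := fun h2 =>
    S.not_dvd_index (hcompl.index_eq_card.symm ▸ h2)
  set T : Cu := ⟨t, htCu⟩
  have hTord : orderOf T = 2 := (Subgroup.orderOf_coe T).symm.trans ht
  haveI hOn : O.Normal := inferInstance
  obtain ⟨R₀, hR₀⟩ := Coprime.exists_invariant_sylow (A := zpowers T) (K := O)
    (by rw [normalizer_eq_top]; exact le_top)
    (by rw [Nat.card_zpowers, hTord]; exact (Nat.prime_two.coprime_iff_not_dvd).2 hOodd)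
    (Or.inl (Coprime.isSolvable_zpowers T)) 3
  set R := (((R₀ : Subgroup O).map O.subtype).map Cu.subtype) with hR
  have hRcard : 3 ^ (2 * n + 2) ∣ Nat.card R := by
    rw [hR, Subgroup.card_map_of_injective Cu.subtype_injective,
      Subgroup.card_map_of_injective O.subtype_injective]
    refine R₀.pow_dvd_card_of_pow_dvd_card ?_
    refine (Nat.Coprime.pow_left _ (by norm_num : Nat.Coprime 3 2)).dvd_of_dvd_mul_right ?_
    rw [hOcard]
    exact h3Cu
  have htR : t ∈ normalizer (R : Set G) := le_normalizer_map Cu.subtype ⟨T, hR₀ (mem_zpowers T), rfl⟩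
  have htC : t ∉ centralizer (R : Set G) := fun hc =>
    hC3 (hRcard.trans (card_dvd_of_le fun x hx =>
      mem_centralizer_singleton_iff.2 (mem_centralizer_iff.1 hc x hx)))
  obtain ⟨z, y, -, ⟨k, hk⟩, hy1, hzy⟩ := H58.Inv.exists_inverted (p := 3) ⟨1, by rw [ht, pow_one]⟩
    ((R₀.isPGroup'.map _).map _) htR htC
  obtain _ | k := k
  · exact absurd (orderOf_eq_one_iff.1 (by rw [hk, pow_zero])) hy1
  refine ⟨y ^ 3 ^ k, z, ?_, by rw [← conj_pow, hzy, inv_pow]⟩
  rw [orderOf_pow_of_dvd (by positivity) (hk ▸ pow_dvd_pow 3 (Nat.le_succ k)), hk,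
    Nat.pow_div (Nat.le_succ k) (by norm_num), show k + 1 - k = 1 by omega, pow_one]

end Cfsg.Agent.H88.Gold
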